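import Cfsg.Agent.Lib.CharKernel
import Cfsg.Agent.Lib.Char.BrauerPerm
import Cfsg.Agent.Lib.Char.Degree
import Cfsg.Agent.Lib.Char.Ito
import Cfsg.Agent.Lib.Char.Linear
import Cfsg.Agent.Lib.CharClifford.Correspondence
import Cfsg.Agent.Lib.Block.PrincipalCover
import Mathlib.GroupTheory.Sylow

/-!
# Real characters of odd degree: counting and constituents
-/

set_option autoImplicit false
set_option linter.unusedSectionVars false
set_option linter.style.haveILetI false

open scoped ComplexConjugate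

namespace Cfsg.Agent.Lib.CharRealSolvable

open Cfsg Cfsg.Agent.Lib Cfsg.Agent.Lib.Char

universe u v

variable {G : Type u} [Group G] [Finite G]

/-- Real of odd degree. -/
def RO (χ : IrrCharacter G) : Prop :=
  (∀ g : G, ((χ : G → ℂ) g).im = 0) ∧ Odd (charDegree (χ : G → ℂ))

/-- The number of real characters of odd degree that are trivial on `K`. -/
noncomputable def cnt (K : Subgroup G) : ℕ :=
  Nat.card {χ : IrrCharacter G // RO χ ∧ ∀ k ∈ K, (χ : G → ℂ) k = (χ : G → ℂ) 1}

theorem cnt_bot : cnt (⊥ : Subgroup G) = Nat.card {χ : IrrCharacter G // RO χ} :=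
  Nat.card_congr (Equiv.subtypeEquivRight fun _ =>
    ⟨fun h => h.1, fun h => ⟨h, fun k hk => by rw [Subgroup.mem_bot.1 hk]⟩⟩)

/-- A character whose kernel contains the kernel of a surjection factors through it. -/
theorem exists_factor {B : Type v} [Group B] (f : G →* B) (hf : Function.Surjective f)
    {χ : G → ℂ} (hχ : IsIrrCharacter G χ) (hker : ∀ k ∈ f.ker, χ k = χ 1) :
    ∃ η : IrrCharacter B, ∀ g, (η : B → ℂ) (f g) = χ g := by
  haveI := Finite.of_surjective f hf
  obtain ⟨η, hη, he⟩ := CharKernel.exists_irr_quotient f.ker hχ hker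
  set e := QuotientGroup.quotientKerEquivOfSurjective f hf
  refine ⟨⟨η ∘ e.symm, isIrrCharacter_comp hη e.symm.toMonoidHom e.symm.surjective⟩, fun g => ?_⟩
  show η (e.symm (f g)) = χ g
  rw [show e.symm (f g) = (g : G ⧸ f.ker) from e.symm_apply_eq.2 rfl, he]

/-- The count is unchanged by a surjection with kernel inside `K`. -/
theorem cnt_map {B : Type v} [Group B] [Finite B] (f : G →* B) (hf : Function.Surjective f)
    (K : Subgroup G) (hK : f.ker ≤ K) : cnt K = cnt (K.map f) := by
  have hdeg : ∀ η : IrrCharacter B, charDegree (fun g => (η : B → ℂ) (f g)) =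
      charDegree (η : B → ℂ) := fun η => charDegree_eq_of_apply_one (by
    rw [map_one, apply_one_eq_charDegree (isCharacter_of_isIrr η.2)])
  symm
  refine Nat.card_congr (Equiv.ofBijective (fun η => ⟨⟨fun g => (η.1 : B → ℂ) (f g),
    isIrrCharacter_comp η.1.2 f hf⟩, ⟨fun g => η.2.1.1 (f g), ?_⟩, fun k hk => ?_⟩) ⟨?_, ?_⟩)
  · show Odd (charDegree (fun g => (η.1 : B → ℂ) (f g)))
    rw [hdeg]; exact η.2.1.2
  · show (η.1 : B → ℂ) (f k) = (η.1 : B → ℂ) (f 1)
    rw [map_one]
    exact η.2.2 _ ⟨k, hk, rfl⟩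
  · intro η η' h
    refine Subtype.ext (Subtype.ext (funext fun b => ?_))
    obtain ⟨g, rfl⟩ := hf b
    exact congrFun (congrArg (fun x => ((x.1 : IrrCharacter G) : G → ℂ)) h) g
  · rintro ⟨χ, ⟨hr, ho⟩, htr⟩
    obtain ⟨η, hη⟩ := exists_factor f hf χ.2 fun k hk => htr k (hK hk)
    have h1 : (η : B → ℂ) 1 = (χ : G → ℂ) 1 := by rw [← hη 1, map_one]
    refine ⟨⟨η, ⟨fun b => ?_, ?_⟩, ?_⟩, Subtype.ext (Subtype.ext (funext hη))⟩
    · obtain ⟨g, rfl⟩ := hf b
      rw [hη]; exact hr g
    · rwa [← hdeg η, funext hη]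
    · rintro _ ⟨k, hk, rfl⟩
      rw [hη, h1]; exact htr k hk

theorem card_ro_eq {B : Type v} [Group B] [Finite B] (e : G ≃* B) :
    Nat.card {χ : IrrCharacter G // RO χ} = Nat.card {χ : IrrCharacter B // RO χ} := by
  rw [← cnt_bot, ← cnt_bot, cnt_map e.toMonoidHom e.surjective ⊥ (by
    rw [MonoidHom.ker_eq_bot_iff e.toMonoidHom |>.2 e.injective])]
  congr 1
  exact Subgroup.map_bot _

/-- A linear character is real exactly when its square is trivial. -/
theorem hom_real_iff (l : G →* ℂˣ) : (∀ g, ((l g : ℂ)).im = 0) ↔ ∀ g, l g ^ 2 = 1 := by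
  refine forall_congr' fun g => ?_
  have h := linear_conj_mul l g
  constructor
  · intro him
    rw [Complex.conj_eq_iff_im.2 him] at h
    exact Units.ext (by rw [Units.val_pow_eq_pow_val, sq, h]; rfl)
  · intro hsq
    have h2 : (l g : ℂ) * (l g : ℂ) = 1 := by
      rw [← Units.val_mul, ← sq, hsq, Units.val_one]
    exact Complex.conj_eq_iff_im.1 (mul_left_cancel₀ (Units.ne_zero (l g)) (h.trans h2.symm))

/-- An odd-degree character of a `2`-group has a linear constituent. -/
theorem exists_linear_constituent {P : Type u} [Group P] [Fintype P] (hP : IsPGroup 2 P)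
    {φ : P → ℂ} (hφ : IsCharacter P φ) (ho : Odd (charDegree φ)) :
    ∃ μ : P →* ℂˣ, classInner φ (fun x => (μ x : ℂ)) ≠ 0 := by
  classical
  obtain ⟨n, hn⟩ := isCharacter_eq_sum hφ
  have hdeg : charDegree φ = ∑ χ : IrrCharacter P, n χ * charDegree (χ : P → ℂ) := by
    refine charDegree_eq_of_apply_one ?_
    rw [hn, Finset.sum_apply, Nat.cast_sum]
    exact Finset.sum_congr rfl fun χ _ => by
      rw [Pi.smul_apply, apply_one_eq_charDegree (isCharacter_of_isIrr χ.2), Nat.cast_mul, smul_eq_mul]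
  obtain ⟨χ, hχ⟩ : ∃ χ : IrrCharacter P, Odd (n χ * charDegree (χ : P → ℂ)) := by
    by_contra! hc
    rw [hdeg] at ho
    exact Nat.not_even_iff_odd.2 ho (Finset.even_sum _ fun χ _ => Nat.not_odd_iff_even.1 (hc χ))
  obtain ⟨hnχ, hdχ⟩ := Nat.odd_mul.1 hχ
  obtain ⟨j, hj⟩ := IsPGroup.iff_card.1 hP
  obtain ⟨i, -, hi⟩ := (Nat.dvd_prime_pow Nat.prime_two).1 (hj ▸ charDegree_dvd_card χ.2)
  have h1 : (χ : P → ℂ) 1 = 1 := by
    rw [apply_one_eq_charDegree (isCharacter_of_isIrr χ.2), hi]
    rcases Nat.eq_zero_or_pos i with rfl | hi0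
    · simp
    · exact absurd hdχ (by rw [hi, Nat.not_odd_iff_even]; exact Nat.even_pow.2 ⟨even_two, hi0.ne'⟩)
  obtain ⟨μ, hμ⟩ := exists_hom_of_degree_one (isCharacter_of_isIrr χ.2) h1
  refine ⟨μ, ?_⟩
  rw [← funext hμ, hn, classInner_sum_left, Finset.sum_eq_single χ]
  · rw [classInner_smul_left, classInner_irr_self χ.2, mul_one, Nat.cast_ne_zero]
    exact (hnχ.pos).ne'
  · intro γ _ hγ
    rw [classInner_smul_left, classInner_irrCharacter, if_neg hγ, mul_zero]
  · simp

/-- A linear character of a subgroup of odd index lies under a character of odd degree. -/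
theorem exists_odd_over [Fintype G] (J : Subgroup G) [Fintype J] (hJ : Odd J.index) (η : J →* ℂˣ) :
    ∃ χ : IrrCharacter G, Odd (charDegree (χ : G → ℂ)) ∧
      classInner (fun x : J => (χ : G → ℂ) x) (fun x => (η x : ℂ)) ≠ 0 := by
  classical
  have hη := isCharacter_of_isIrr (isIrrCharacter_linear η)
  obtain ⟨n, hn⟩ := isCharacter_eq_sum (isCharacter_indFun J hη)
  have hdeg : charDegree (indFun J fun x => (η x : ℂ)) =
      ∑ χ : IrrCharacter G, n χ * charDegree (χ : G → ℂ) := by
    refine charDegree_eq_of_apply_one ?_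
    rw [hn, Finset.sum_apply, Nat.cast_sum]
    exact Finset.sum_congr rfl fun χ _ => by
      rw [Pi.smul_apply, apply_one_eq_charDegree (isCharacter_of_isIrr χ.2), Nat.cast_mul, smul_eq_mul]
  rw [charDegree_indFun J hη, charDegree_eq_of_apply_one (n := 1) (by simp), mul_one] at hdeg
  obtain ⟨χ, hχ⟩ : ∃ χ : IrrCharacter G, Odd (n χ * charDegree (χ : G → ℂ)) := by
    by_contra! hc
    exact Nat.not_even_iff_odd.2 hJ (hdeg ▸ Finset.even_sum _ fun χ _ => Nat.not_odd_iff_even.1 (hc χ))
  obtain ⟨hnχ, hdχ⟩ := Nat.odd_mul.1 hχ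
  refine ⟨χ, hdχ, ?_⟩
  rw [← classInner_indFun_right J _ (isClassFunction_of_isIrr χ.2), hn, classInner_sum_right,
    Finset.sum_eq_single χ]
  · rw [classInner_smul_right, classInner_irr_self χ.2, mul_one, map_natCast, Nat.cast_ne_zero]
    exact (hnχ.pos).ne'
  · intro γ _ hγ
    rw [classInner_smul_right, classInner_irrCharacter, if_neg (Ne.symm hγ), mul_zero]
  · simp

variable [Fintype G] {L : Subgroup G} [L.Normal] [Fintype L]

/-- The inertia group of a constituent of a character of odd degree has odd index and its degree is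
odd. -/
theorem odd_inertia {χ : IrrCharacter G} (ho : Odd (charDegree (χ : G → ℂ))) {θ : IrrCharacter L}
    (h : classInner (fun n : L => (χ : G → ℂ) n) (θ : L → ℂ) ≠ 0) :
    Odd (inertia L (θ : L → ℂ)).index ∧ Odd (charDegree (θ : L → ℂ)) := by
  obtain ⟨a, ha⟩ := classInner_natCast (isCharacter_restrict (isCharacter_of_isIrr χ.2) L)
    (isCharacter_of_isIrr θ.2)
  have h1 := clifford_degree L χ.2 θ.2 h
  rw [ha, apply_one_eq_charDegree (isCharacter_of_isIrr χ.2),
    apply_one_eq_charDegree (isCharacter_of_isIrr θ.2)] at h1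
  have h2 : charDegree (χ : G → ℂ) =
      a * (inertia L (θ : L → ℂ)).index * charDegree (θ : L → ℂ) := by exact_mod_cast h1
  rw [h2] at ho
  exact ⟨(Nat.odd_mul.1 (Nat.odd_mul.1 ho).1).2, (Nat.odd_mul.1 ho).2⟩

/-- The constituents of a real character of odd degree are real. -/
theorem constituent_real {χ : IrrCharacter G} (hro : RO χ) {θ : IrrCharacter L}
    (h : classInner (fun n : L => (χ : G → ℂ) n) (θ : L → ℂ) ≠ 0) (n : L) :
    ((θ : L → ℂ) n).im = 0 := by
  classical
  obtain ⟨hodd, -⟩ := odd_inertia hro.2 h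
  rw [← card_orbit L _ (irr_degree_ne_zero θ.2)] at hodd
  set O := orbit L (θ : L → ℂ) with hO
  have hmem : ∀ ψ ∈ O, (fun x => conj (ψ x)) ∈ O := by
    intro ψ hψ
    obtain ⟨g, rfl⟩ := (mem_orbit L).1 hψ
    have hne : classInner (fun n : L => (χ : G → ℂ) n) (fun x => conj (conjChar L g (θ : L → ℂ) x)) ≠ 0 := by
      have e : (fun n : L => (χ : G → ℂ) n) = fun n : L => conj ((χ : G → ℂ) n) :=
        funext fun n => (Complex.conj_eq_iff_im.2 (hro.1 n)).symm
      rw [e]
      have h0 : classInner (fun n : L => (χ : G → ℂ) n) (conjChar L g (θ : L → ℂ)) ≠ 0 := by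
        conv => arg 1; arg 1; rw [← conjChar_restrict L (isClassFunction_of_isIrr χ.2) g]
        rwa [classInner_conjChar]
      intro h1
      refine h0 ?_
      have h2 : classInner (fun n : L => conj ((χ : G → ℂ) n))
          (fun x => conj (conjChar L g (θ : L → ℂ) x)) =
          conj (classInner (fun n : L => (χ : G → ℂ) n) (conjChar L g (θ : L → ℂ))) := by
        simp [classInner, map_sum]
      rw [h2, map_eq_zero] at h1
      exact h1
    exact (mem_orbit L).2 (conjugate_of_constituents L χ.2 θ.2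
      (isIrrCharacter_conj (isIrrCharacter_conjChar L g θ.2)) h hne)
  obtain ⟨ψ, hψ, hfix⟩ : ∃ ψ ∈ O, (fun x => conj (ψ x)) = ψ := by
    by_contra! hc
    refine Nat.not_even_iff_odd.2 hodd ?_
    have h0 : (O.card : ZMod 2) = 0 := by
      rw [Finset.card_eq_sum_ones, Nat.cast_sum]
      exact Finset.sum_involution (fun ψ _ => fun x => conj (ψ x)) (fun ψ _ => by decide)
        (fun ψ hψ _ => hc ψ hψ) hmem (fun ψ _ => funext fun x => Complex.conj_conj _)
    exact (ZMod.natCast_eq_zero_iff_even).1 h0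
  obtain ⟨g, hg⟩ := (mem_orbit L).1 hψ
  have e : (θ : L → ℂ) = conjChar L g⁻¹ ψ := by
    rw [← hg, ← conjChar_mul, mul_inv_cancel, conjChar_one]
  rw [e, conjChar_apply]
  exact Complex.conj_eq_iff_im.1 (congrFun hfix _)

/-- A real character of odd degree is trivial on a normal subgroup of odd order. -/
theorem trivial_of_odd {χ : IrrCharacter G} (hro : RO χ) (hL : Odd (Nat.card L)) :
    ∀ k ∈ L, (χ : G → ℂ) k = (χ : G → ℂ) 1 := by
  have hne : (fun n : L => (χ : G → ℂ) n) ≠ 0 := fun h => irr_degree_ne_zero χ.2 (congrFun h 1)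
  obtain ⟨θ, hθ⟩ := exists_constituent (isCharacter_restrict (isCharacter_of_isIrr χ.2) L) hne
  have hone := eq_one_of_real hL θ (constituent_real hro hθ)
  intro k hk
  have e := congrFun (clifford L χ.2 θ.2 hθ) ⟨k, hk⟩
  have e1 := congrFun (clifford L χ.2 θ.2 hθ) 1
  have horb : ∀ ψ ∈ orbit L (θ : L → ℂ), ψ = fun _ => 1 := fun ψ hψ => by
    obtain ⟨g, rfl⟩ := (mem_orbit L).1 hψ
    funext n
    rw [conjChar_apply, hone]
  simp only [Subgroup.coe_one, Pi.smul_apply, Finset.sum_apply, smul_eq_mul] at e e1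
  rw [e, e1]
  congr 1
  exact Finset.sum_congr rfl fun ψ hψ => by rw [horb ψ hψ]

/-- Some conjugate of a constituent of a character of odd degree is fixed by the Sylow subgroup. -/
theorem exists_inv_constituent (P : Sylow 2 G) {χ : IrrCharacter G}
    (ho : Odd (charDegree (χ : G → ℂ))) :
    ∃ θ : IrrCharacter L, classInner (fun n : L => (χ : G → ℂ) n) (θ : L → ℂ) ≠ 0 ∧
      Odd (charDegree (θ : L → ℂ)) ∧ ∀ x ∈ (P : Subgroup G), conjChar L x (θ : L → ℂ) = θ := by
  classical
  haveI : Fact (Nat.Prime 2) := ⟨Nat.prime_two⟩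
  have hne : (fun n : L => (χ : G → ℂ) n) ≠ 0 := fun h => irr_degree_ne_zero χ.2 (congrFun h 1)
  obtain ⟨θ, hθ⟩ := exists_constituent (isCharacter_restrict (isCharacter_of_isIrr χ.2) L) hne
  obtain ⟨hI, -⟩ := odd_inertia ho hθ
  set I := inertia L (θ : L → ℂ) with hIdef
  obtain ⟨S⟩ := (inferInstance : Nonempty (Sylow 2 I))
  have hSi : ¬ 2 ∣ ((S : Subgroup I).map I.subtype).index := by
    rw [Subgroup.index_map_subtype]
    intro h
    rcases Nat.prime_two.dvd_mul.1 h with h | h
    · exact S.not_dvd_index h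
    · exact Nat.not_even_iff_odd.2 hI (even_iff_two_dvd.2 h)
  set S' : Sylow 2 G := (S.isPGroup'.map I.subtype).toSylow hSi with hS'
  obtain ⟨g, hg⟩ := MulAction.exists_smul_eq G P S'
  refine ⟨⟨conjChar L g (θ : L → ℂ), isIrrCharacter_conjChar L g θ.2⟩, ?_, ?_, fun x hx => ?_⟩
  · show classInner (fun n : L => (χ : G → ℂ) n) (conjChar L g (θ : L → ℂ)) ≠ 0
    conv => arg 1; arg 1; rw [← conjChar_restrict L (isClassFunction_of_isIrr χ.2) g]
    rwa [classInner_conjChar]
  · have h := (odd_inertia ho hθ).2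
    show Odd (charDegree (conjChar L g (θ : L → ℂ)))
    rwa [charDegree_eq_of_apply_one (by
      rw [conjChar_apply_one, apply_one_eq_charDegree (isCharacter_of_isIrr θ.2)])]
  · show conjChar L x (conjChar L g (θ : L → ℂ)) = conjChar L g (θ : L → ℂ)
    have hxI : g * x * g⁻¹ ∈ I := by
      have h1 : g * x * g⁻¹ ∈ (S' : Subgroup G) := by
        rw [← hg, Sylow.coe_subgroup_smul]
        exact ⟨x, hx, rfl⟩
      rw [hS', IsPGroup.toSylow_coe] at h1
      exact Subgroup.map_subtype_le _ h1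
    rw [← conjChar_mul, show g * x = (g * x * g⁻¹) * g by group, conjChar_mul,
      (mem_inertia L).1 hxI]

/-- The normaliser of the image of a Sylow subgroup is the image of the normaliser. -/
theorem normalizer_sylow_map {q : ℕ} [Fact q.Prime] (P : Sylow q G) (K : Subgroup G) [K.Normal] :
    Subgroup.normalizer (((P : Subgroup G).map (QuotientGroup.mk' K) : Subgroup (G ⧸ K)) : Set (G ⧸ K)) =
      (Subgroup.normalizer ((P : Subgroup G) : Set G)).map (QuotientGroup.mk' K) := by
  refine le_antisymm (fun y hy => ?_) ?_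
  · obtain ⟨y, rfl⟩ := QuotientGroup.mk'_surjective K y
    set H := (Subgroup.normalizer (((P : Subgroup G).map (QuotientGroup.mk' K) : Subgroup (G ⧸ K)) :
      Set (G ⧸ K))).comap (QuotientGroup.mk' K) with hH
    set PK := ((P : Subgroup G).map (QuotientGroup.mk' K)).comap (QuotientGroup.mk' K) with hPK
    have hPPK : (P : Subgroup G) ≤ PK := Subgroup.le_comap_map _ _
    have hPKH : PK ≤ H := Subgroup.comap_mono Subgroup.le_normalizer
    haveI : (PK.subgroupOf H).Normal := ⟨fun a ha h => by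
      rw [Subgroup.mem_subgroupOf, hPK, Subgroup.mem_comap] at ha ⊢
      rw [Subgroup.coe_mul, Subgroup.coe_mul, Subgroup.coe_inv, map_mul, map_mul, map_inv]
      exact (Subgroup.mem_normalizer_iff.1 (Subgroup.mem_comap.1 h.2) _).1 ha⟩
    set P' := P.subtype (hPPK.trans hPKH) with hP'
    have htop : Subgroup.normalizer ((P' : Subgroup H) : Set H) ⊔ PK.subgroupOf H = ⊤ :=
      Sylow.normalizer_sup_eq_top' P' (N := PK.subgroupOf H)
        (by rw [Sylow.coe_subtype]; exact Subgroup.comap_mono hPPK)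
    have hy' : (⟨y, Subgroup.mem_comap.2 hy⟩ : H) ∈
        Subgroup.normalizer ((P' : Subgroup H) : Set H) ⊔ PK.subgroupOf H := by
      rw [htop]; exact Subgroup.mem_top _
    obtain ⟨n, hn, j, hj, he⟩ := Subgroup.mem_sup_of_normal_right.1 hy'
    have hnG : (n : G) ∈ Subgroup.normalizer ((P : Subgroup G) : Set G) := by
      rw [Sylow.coe_subtype] at hn
      refine Subgroup.mem_normalizer_iff.2 fun z => ?_
      constructor
      · intro hz
        exact (Subgroup.mem_normalizer_iff.1 hn ⟨z, (hPPK.trans hPKH) hz⟩).1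
          (Subgroup.mem_subgroupOf.2 hz)
      · intro hz
        have hzH : z ∈ H := by
          have := H.mul_mem (H.mul_mem (H.inv_mem n.2) ((hPPK.trans hPKH) hz)) n.2
          simpa [mul_assoc] using this
        exact Subgroup.mem_subgroupOf.1 ((Subgroup.mem_normalizer_iff.1 hn ⟨z, hzH⟩).2
          (Subgroup.mem_subgroupOf.2 (by simpa using hz)))
    have he' : (n : G) * (j : G) = y := congrArg Subtype.val he
    rw [← he', map_mul]
    refine mul_mem (Subgroup.mem_map_of_mem _ hnG) ?_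
    exact Subgroup.map_mono Subgroup.le_normalizer (Subgroup.mem_comap.1 (Subgroup.mem_subgroupOf.1 hj))
  · rintro _ ⟨n, hn, rfl⟩
    refine Subgroup.mem_normalizer_iff.2 fun z => ?_
    constructor
    · rintro ⟨a, ha, rfl⟩
      exact ⟨n * a * n⁻¹, (Subgroup.mem_normalizer_iff.1 hn a).1 ha, by simp⟩
    · rintro ⟨a, ha, he⟩
      refine ⟨n⁻¹ * a * n, ?_, ?_⟩
      · rw [SetLike.mem_coe, Subgroup.mem_normalizer_iff.1 hn]
        simpa [mul_assoc] using (show a ∈ (P : Subgroup G) from ha)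
      · simp [map_mul, he, mul_assoc]

end Cfsg.Agent.Lib.CharRealSolvable
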