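import Cfsg.Agent.Lib.CharRealSolvable.Basic

/-!
# Real characters of odd degree over a linear character of order two
-/

set_option autoImplicit false
set_option linter.unusedSectionVars false
set_option linter.style.haveILetI false

open scoped ComplexConjugate

namespace Cfsg.Agent.Lib.CharRealSolvable

open Cfsg Cfsg.Agent.Lib Cfsg.Agent.Lib.Char Cfsg.Agent.Lib.CharClifford

universe u

variable {G : Type u} [Group G] [Fintype G] {Q : Subgroup G}

/-- A linear character as a function. -/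
def homFun (l : Q →* ℂˣ) : Q → ℂ := fun q => (l q : ℂ)

theorem isIrr_homFun [Fintype Q] (l : Q →* ℂˣ) : IsIrrCharacter Q (homFun l) :=
  isIrrCharacter_linear l

/-- The kernel, as a subgroup of the group. -/
def kerOf (l : Q →* ℂˣ) : Subgroup G := l.ker.map Q.subtype

theorem kerOf_le (l : Q →* ℂˣ) : kerOf l ≤ Q := Subgroup.map_subtype_le _

theorem mem_kerOf {l : Q →* ℂˣ} {q : Q} : (q : G) ∈ kerOf l ↔ l q = 1 := by
  rw [kerOf, ← MonoidHom.mem_ker]
  exact Subgroup.mem_map_iff_mem Q.subtype_injective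

theorem indFun_conj (T : Subgroup G) (ψ : T → ℂ) (g : G) :
    conj (indFun T ψ g) = indFun T (fun t => conj (ψ t)) g := by
  classical
  simp only [indFun, map_mul, map_inv₀, map_natCast, map_sum]
  congr 1
  refine Finset.sum_congr rfl fun x _ => ?_
  by_cases hx : x⁻¹ * g * x ∈ T
  · rw [extendByZero_mem T _ hx, extendByZero_mem T _ hx]
  · rw [extendByZero, extendByZero, Function.extend_apply' _ _ _ (by
      rintro ⟨a, ha⟩; exact hx (ha ▸ a.2)), Function.extend_apply' _ _ _ (by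
      rintro ⟨a, ha⟩; exact hx (ha ▸ a.2))]
    simp

variable [Q.Normal] [Fintype Q] (l : Q →* ℂˣ) {T : Subgroup G} [Fintype T]

theorem kerOf_normal_in (hT : inertia Q (homFun l) = T) : ((kerOf l).subgroupOf T).Normal := by
  refine ⟨fun k hk t => ?_⟩
  rw [Subgroup.mem_subgroupOf] at hk ⊢
  obtain ⟨q, hq, hqk⟩ := hk
  have ht : conjChar Q (t : G) (homFun l) = homFun l := (mem_inertia Q).1 (hT.symm ▸ t.2)
  have hqm : (t : G) * (q : G) * (t : G)⁻¹ ∈ Q := (inferInstance : Q.Normal).conj_mem _ q.2 _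
  refine ⟨⟨_, hqm⟩, MonoidHom.mem_ker.2 (Units.ext ?_), ?_⟩
  · have h := congrFun ht q
    rw [conjChar_apply] at h
    refine h.trans ?_
    show (l q : ℂ) = _
    rw [MonoidHom.mem_ker.1 hq]
  · simp only [Subgroup.coe_subtype] at hqk
    simp [← hqk]

variable {l} (hsq : ∀ q, l q ^ 2 = 1)

include hsq in
theorem real_homFun (q : Q) : conj (homFun l q) = homFun l q :=
  Complex.conj_eq_iff_im.2 ((hom_real_iff l).2 hsq q)

variable (hT : inertia Q (homFun l) = T) (hQT : Q ≤ T)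

include hT in
/-- A character over `l` is trivial on its kernel. -/
theorem trivial_ker_of_over (ψ : IrrCharacter T)
    (h : classInner (resLe hQT (ψ : T → ℂ)) (homFun l) ≠ 0) :
    ∀ k ∈ (kerOf l).subgroupOf T, (ψ : T → ℂ) k = (ψ : T → ℂ) 1 := by
  intro k hk
  have hr := restrict_stabilized Q (isIrr_homFun l) T hQT
    (fun t ht => (mem_inertia Q).1 (hT.symm ▸ ht)) ψ.2 h
  obtain ⟨q, hq, hqk⟩ := Subgroup.mem_subgroupOf.1 hk
  have e1 := congrFun hr q
  have e2 := congrFun hr 1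
  simp only [Pi.smul_apply, smul_eq_mul, homFun, MonoidHom.mem_ker.1 hq, map_one, Units.val_one,
    mul_one] at e1 e2
  rw [show k = ⟨(q : G), hQT q.2⟩ from Subtype.ext hqk.symm]
  exact e1.trans e2.symm

variable (hne : l ≠ 1)

include hsq hne in
/-- Off `l`, a character trivial on the kernel is trivial on `Q`. -/
theorem trivial_of_not_over (ψ : IrrCharacter T)
    (hK : ∀ k ∈ (kerOf l).subgroupOf T, (ψ : T → ℂ) k = (ψ : T → ℂ) 1)
    (h : classInner (resLe hQT (ψ : T → ℂ)) (homFun l) = 0) :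
    ∀ k ∈ Q.subgroupOf T, (ψ : T → ℂ) k = (ψ : T → ℂ) 1 := by
  classical
  obtain ⟨q₀, hq₀⟩ : ∃ q₀, l q₀ ≠ 1 := by
    by_contra! hc
    exact hne (MonoidHom.ext hc)
  have hval : ∀ q, l q = 1 ∨ l q = -1 := fun q => by
    have h2 : ((l q : ℂ)) ^ 2 = 1 := by rw [← Units.val_pow_eq_pow_val, hsq, Units.val_one]
    exact (sq_eq_one_iff.1 h2).imp (fun h => Units.ext h) (fun h => Units.ext (by simpa using h))
  have hq₀' : l q₀ = -1 := (hval q₀).resolve_left hq₀
  set φ := resLe hQT (ψ : T → ℂ) with hφ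
  have hin : ∀ q : Q, l q = 1 → φ q = φ 1 := fun q hq =>
    hK ⟨(q : G), hQT q.2⟩ (Subgroup.mem_subgroupOf.2 (mem_kerOf.2 hq))
  have hout : ∀ q : Q, l q = -1 → φ q = φ q₀ := fun q hq => by
    have hk : ((q₀⁻¹ * q : Q) : G) ∈ kerOf l := mem_kerOf.2 (by
      rw [map_mul, map_inv, hq, hq₀', inv_mul_cancel])
    have h1 := CharKernel.apply_mul_of_mem' (isCharacter_of_isIrr ψ.2)
      (hK ⟨((q₀⁻¹ * q : Q) : G), hQT (q₀⁻¹ * q).2⟩ (Subgroup.mem_subgroupOf.2 hk))
      ⟨(q₀ : G), hQT q₀.2⟩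
    show (ψ : T → ℂ) ⟨(q : G), _⟩ = (ψ : T → ℂ) ⟨(q₀ : G), _⟩
    rw [← h1]
    exact congrArg (ψ : T → ℂ) (Subtype.ext (show (q : G) = (q₀ : G) * ((q₀⁻¹ * q : Q) : G) by
      rw [← Subgroup.coe_mul, mul_inv_cancel_left]))
  have hsum : ∑ q : Q, φ q * (l q : ℂ) = 0 := by
    have h0 : (Nat.card Q : ℂ)⁻¹ * ∑ q : Q, φ q * conj (homFun l q) = 0 := h
    rw [Finset.sum_congr rfl fun q _ => show φ q * conj (homFun l q) = φ q * (l q : ℂ) by
      rw [real_homFun hsq q]; rfl] at h0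
    exact (mul_eq_zero.1 h0).resolve_left (inv_ne_zero (card_ne_zero_complex Q))
  set S₁ := Finset.univ.filter fun q : Q => l q = 1 with hS1
  set S₂ := Finset.univ.filter fun q : Q => ¬ l q = 1 with hS2
  have hcard : S₁.card = S₂.card := by
    refine Finset.card_bij (fun q _ => q * q₀) ?_ ?_ ?_
    · intro q hq
      refine Finset.mem_filter.2 ⟨Finset.mem_univ _, ?_⟩
      rw [map_mul, (Finset.mem_filter.1 hq).2, one_mul]
      exact hq₀
    · intro a _ b _ h; exact mul_right_cancel h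
    · intro q hq
      refine ⟨q * q₀⁻¹, Finset.mem_filter.2 ⟨Finset.mem_univ _, ?_⟩, inv_mul_cancel_right q q₀⟩
      rw [map_mul, map_inv, (hval q).resolve_left (Finset.mem_filter.1 hq).2, hq₀', mul_inv_cancel]
  have e1 : ∑ q ∈ S₁, φ q * (l q : ℂ) = (S₁.card : ℂ) * φ 1 := by
    rw [← nsmul_eq_mul, ← Finset.sum_const]
    exact Finset.sum_congr rfl fun q hq => by
      rw [hin q (Finset.mem_filter.1 hq).2, (Finset.mem_filter.1 hq).2, Units.val_one, mul_one]
  have e2 : ∑ q ∈ S₂, φ q * (l q : ℂ) = (S₂.card : ℂ) * (- φ q₀) := by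
    rw [← nsmul_eq_mul, ← Finset.sum_const]
    refine Finset.sum_congr rfl fun q hq => ?_
    have hq' := (hval q).resolve_left (Finset.mem_filter.1 hq).2
    rw [hout q hq', hq']; simp
  rw [← Finset.sum_filter_add_sum_filter_not Finset.univ (fun q : Q => l q = 1), ← hS1, ← hS2, e1,
    e2, hcard, ← mul_add, mul_eq_zero, ← sub_eq_add_neg, sub_eq_zero] at hsum
  have hS : (S₂.card : ℂ) ≠ 0 := Nat.cast_ne_zero.2 (Finset.card_ne_zero.2
    ⟨q₀, Finset.mem_filter.2 ⟨Finset.mem_univ _, hq₀⟩⟩)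
  have heq := hsum.resolve_left hS
  intro k hk
  set q : Q := ⟨(k : G), hk⟩
  have h1 : φ q = φ 1 := by
    rcases hval q with hq | hq
    · exact hin q hq
    · rw [hout q hq, heq]
  exact h1

include hsq hne hT hQT in
/-- Real characters of odd degree over `l`, counted in the inertia group. -/
theorem card_over_add (hi : Odd T.index) :
    Nat.card {χ : IrrCharacter G // RO χ ∧
        classInner (fun q : Q => (χ : G → ℂ) q) (homFun l) ≠ 0} + cnt (Q.subgroupOf T) =
      cnt ((kerOf l).subgroupOf T) := by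
  classical
  have hl := isIrr_homFun l
  have hone : (fun t : T => (1 : ℂ)) = fun _ : T => 1 := rfl
  have hexcl : ∀ ψ : IrrCharacter T, classInner (resLe hQT (ψ : T → ℂ)) (homFun l) ≠ 0 →
      ¬ ∀ k ∈ Q.subgroupOf T, (ψ : T → ℂ) k = (ψ : T → ℂ) 1 := by
    intro ψ h htr
    refine h ?_
    rw [show resLe hQT (ψ : T → ℂ) = (ψ : T → ℂ) 1 • fun _ : Q => (1 : ℂ) from funext fun q => by
      rw [Pi.smul_apply, smul_eq_mul, mul_one]; exact htr _ q.2, classInner_smul_left,
      classInner_irr_ne isIrrCharacter_one hl (fun h' => hne (MonoidHom.ext fun q => Units.ext ?_)),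
      mul_zero]
    exact (congrFun h' q).symm
  -- the correspondence
  have hcorr : Nat.card {χ : IrrCharacter G // RO χ ∧
        classInner (fun q : Q => (χ : G → ℂ) q) (homFun l) ≠ 0} =
      Nat.card {ψ : IrrCharacter T // RO ψ ∧
        classInner (resLe hQT (ψ : T → ℂ)) (homFun l) ≠ 0} := by
    have hdeg : ∀ ψ : IrrCharacter T, charDegree (indFun T (ψ : T → ℂ)) =
        T.index * charDegree (ψ : T → ℂ) := fun ψ => charDegree_indFun T (isCharacter_of_isIrr ψ.2)
    symm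
    refine Nat.card_congr (Equiv.ofBijective (fun ψ => ⟨⟨indFun T (ψ.1 : T → ℂ),
      (indFun_correspondent Q hl T hT hQT ψ.1.2 ψ.2.2).1⟩, ⟨?_, ?_⟩, ?_⟩) ⟨?_, ?_⟩)
    · intro g
      refine Complex.conj_eq_iff_im.1 ?_
      show conj (indFun T (ψ.1 : T → ℂ) g) = indFun T (ψ.1 : T → ℂ) g
      rw [indFun_conj]
      congr 1
      exact funext fun t => Complex.conj_eq_iff_im.2 (ψ.2.1.1 t)
    · show Odd (charDegree (indFun T (ψ.1 : T → ℂ)))
      rw [hdeg]
      exact hi.mul ψ.2.1.2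
    · have hirr := (indFun_correspondent Q hl T hT hQT ψ.1.2 ψ.2.2).1
      have hcon : classInner (fun t : T => indFun T (ψ.1 : T → ℂ) t) (ψ.1 : T → ℂ) ≠ 0 := by
        rw [← classInner_indFun_right T _ (isClassFunction_of_isIrr hirr), classInner_irr_self hirr]
        exact one_ne_zero
      have h := (correspondence Q hl T hT hQT hirr ψ.1.2 ψ.2.2 hcon).2.1
      exact h ▸ ψ.2.2
    · intro ψ ψ' h
      have he : indFun T (ψ.1 : T → ℂ) = indFun T (ψ'.1 : T → ℂ) :=
        congrArg (fun x => ((x.1 : IrrCharacter G) : G → ℂ)) h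
      exact Subtype.ext (Subtype.ext ((indFun_correspondent Q hl T hT hQT ψ'.1.2 ψ'.2.2).2 _
        ψ.1.2 ψ.2.2 he))
    · rintro ⟨χ, ⟨hr, ho⟩, hover⟩
      obtain ⟨ψ, hψ, hind, hov, -⟩ := exists_correspondent Q hl T hT hQT χ.2 hover
      have hov' : classInner (resLe hQT ψ) (homFun l) ≠ 0 := hov ▸ hover
      have hconj : (fun t : T => conj (ψ t)) = ψ := by
        refine (indFun_correspondent Q hl T hT hQT hψ hov').2 _ (isIrrCharacter_conj hψ) ?_ ?_
        · intro h0
          refine hov' ?_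
          have e : classInner (resLe hQT fun t : T => conj (ψ t)) (homFun l) =
              conj (classInner (resLe hQT ψ) (homFun l)) := by
            simp [classInner, map_sum, resLe, real_homFun hsq]
          rw [e, map_eq_zero] at h0
          exact h0
        · funext g
          rw [← indFun_conj, hind]
          exact Complex.conj_eq_iff_im.2 (hr g)
      refine ⟨⟨⟨ψ, hψ⟩, ⟨fun t => Complex.conj_eq_iff_im.1 (congrFun hconj t), ?_⟩, hov'⟩,
        Subtype.ext (Subtype.ext hind)⟩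
      have h := hdeg ⟨ψ, hψ⟩
      rw [hind] at h
      rw [h] at ho
      exact (Nat.odd_mul.1 ho).2
  rw [hcorr, cnt, cnt, ← Nat.card_sum]
  refine Nat.card_congr (Equiv.ofBijective (Sum.elim
    (fun ψ => ⟨ψ.1, ψ.2.1, trivial_ker_of_over hT hQT ψ.1 ψ.2.2⟩)
    (fun ψ => ⟨ψ.1, ψ.2.1, fun k hk => ψ.2.2 k
      (Subgroup.comap_mono (f := T.subtype) (kerOf_le l) hk)⟩)) ⟨?_, ?_⟩)
  · rintro (a | a) (b | b) h <;> simp only [Sum.elim_inl, Sum.elim_inr, Subtype.mk.injEq] at h
    · exact congrArg Sum.inl (Subtype.ext h)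
    · exact absurd (h ▸ b.2.2) (hexcl a.1 a.2.2)
    · exact absurd (h.symm ▸ a.2.2) (hexcl b.1 b.2.2)
    · exact congrArg Sum.inr (Subtype.ext h)
  · rintro ⟨ψ, hro, htr⟩
    by_cases h : classInner (resLe hQT (ψ : T → ℂ)) (homFun l) = 0
    · exact ⟨Sum.inr ⟨ψ, hro, trivial_of_not_over hsq hQT hne ψ htr h⟩, rfl⟩
    · exact ⟨Sum.inl ⟨ψ, hro, h⟩, rfl⟩

end Cfsg.Agent.Lib.CharRealSolvable
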